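import Groth.Agent.AVAmpleLib.NonDegen
import Groth.Agent.AVAmpleLib.CartierSection
import Groth.Agent.JacAlbLib.ThetaCartier
import Groth.Agent.IntMultLib.Cartier
import Groth.Agent.S1684
import Groth.Agent.S1535

/-!
A curve missing a prime divisor of an abelian variety translates it onto itself.
-/

set_option autoImplicit false
set_option maxRecDepth 8000
set_option maxHeartbeats 2000000
set_option backward.isDefEq.respectTransparency false
set_option linter.style.haveILetI false
set_option linter.unusedSectionVars false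

noncomputable section

universe u

open CategoryTheory MonoidalCategory CartesianMonoidalCategory MonObj AlgebraicGeometry TopologicalSpace
open AmpleThLib AmpleLib AVAmpleLib
open TwistLib (genSet)
open CubeConsLib

namespace DivTransl

variable {K : Type u} [Field K] [IsAlgClosed K] {A : Over (Spec (CommRingCat.of K))} [GrpObj A]
  [IsProper A.hom] [GeometricallyIntegral A.hom] {L : A.left.Modules} (hL : PicF.IsInvertible L)

/-- A morphism towards projective space whose first standard preimage is a given locus. -/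
theorem exists_map (σ : Γ(L, ⊤)) (hne : ((genSet hL σ : A.left.Opens) : Set A.left).Nonempty) :
    ∃ (n : ℕ) (i : A.left ⟶ CohB1.ProjSpaceOver n (Spec (CommRingCat.of K))),
      i ≫ CohB1.ProjSpaceOver.toBase n (Spec (CommRingCat.of K)) = A.hom ∧
      i ⁻¹ᵁ Pk (Spec (CommRingCat.of K)) (0 : Fin (n + 1)) = genSet hL σ := by
  classical
  haveI : IsIntegral A.left := GeometricallyIntegral.isIntegral_of_subsingleton A.hom
  haveI : CompactSpace A.left := QuasiCompact.compactSpace_of_compactSpace A.hom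
  have hM := shT_isInvertible hL hL
  choose a ha τ hτ using exists_translated_locus hL hne σ rfl
  obtain ⟨T, hT⟩ := isCompact_univ.elim_finite_subcover (fun y => (genSet hM (τ y) : Set A.left))
    (fun y => (genSet hM (τ y)).2) fun y _ => Set.mem_iUnion.2 ⟨y, (hτ y).ge (ha y)⟩
  let p₀ : A.left := genericPoint A.left
  let e := (insert p₀ T).equivFin
  have hcard : 0 < (insert p₀ T).card := Finset.card_pos.2 (Finset.insert_nonempty _ _)
  obtain ⟨m, hm⟩ := Nat.exists_eq_succ_of_ne_zero hcard.ne'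
  let v' : Fin (m + 1) → Γ(CohB1.tensorMod L L, ⊤) := fun i => τ (e.symm (i.cast hm.symm)).1
  let v : Fin (m + 1 + 1) → Γ(CohB1.tensorMod L L, ⊤) := Fin.cons (shT σ σ) v'
  have hgen : ∀ y : A.left, ∃ k, y ∈ genSet hM (v k) := fun y => by
    obtain ⟨z, hz, hyz⟩ := Set.mem_iUnion₂.1 (hT (Set.mem_univ y))
    refine ⟨((e ⟨z, Finset.mem_insert_of_mem hz⟩).cast hm).succ, ?_⟩
    simp only [v, v', Fin.cons_succ, Fin.cast_cast, Fin.cast_eq_self, Equiv.symm_apply_apply]
    exact hyz
  obtain ⟨r, τi, hpre, -⟩ := exists_toPZ hM v hgen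
  let S := Spec (CommRingCat.of K)
  let i : A.left ⟶ CohB1.ProjSpaceOver (m + 1) S := Limits.pullback.lift r A.hom (specULiftZIsTerminal.hom_ext _ _)
  have hfst : i ≫ ChowLib.toPZ (m + 1) S = r := Limits.pullback.lift_fst _ _ _
  refine ⟨m + 1, i, Limits.pullback.lift_snd _ _ _, ?_⟩
  have h0 : genSet hM (v 0) = genSet hL σ := by
    simp only [v, Fin.cons_zero]
    exact (genSet_shT hL hL σ σ).trans (inf_idem _)
  rw [← h0, ← hpre 0, ← hfst]
  rfl

variable {Δ : Set A.left}

/-- A prime divisor is the complement of the locus of a section. -/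
theorem exists_section_compl [Smooth A.hom] (hΔ : IsClosed Δ) {ξ : A.left} (hξ : closure {ξ} = Δ)
    (hcodim : ringKrullDim (A.left.presheaf.stalk ξ) = 1) :
    ∃ (L : A.left.Modules) (hL : PicF.IsInvertible L) (σ : Γ(L, ⊤)), (genSet hL σ : Set A.left) = Δᶜ := by
  let Z : Closeds A.left := ⟨Δ, hΔ⟩
  let I := Scheme.IdealSheafData.vanishingIdeal Z
  have hirr : IsIrreducible (Z : Set A.left) := by
    show IsIrreducible Δ
    rw [← hξ]; exact isIrreducible_singleton.closure
  haveI : IsIntegral I.subscheme := JacAlbLib.isIntegral_vanishingIdeal Z hirr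
  haveI : IsLocallyNoetherian A.left := LocallyOfFiniteType.isLocallyNoetherian A.hom
  have hr : Set.range I.subschemeι = Δ := by
    rw [I.range_subschemeι]; exact Scheme.IdealSheafData.coe_support_vanishingIdeal Z
  have hgp : I.subschemeι (genericPoint I.subscheme) = ξ := by
    have h1 : IsGenericPoint (I.subschemeι (genericPoint I.subscheme)) Δ := by
      have h := (genericPoint_spec I.subscheme).image I.subschemeι.continuous
      rwa [Set.image_univ, hr, hΔ.closure_eq] at h
    exact h1.eq hξ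
  letI : A.left.Over (Spec (CommRingCat.of K)) := ⟨A.hom⟩
  haveI : Smooth (A.left ↘ Spec (CommRingCat.of K)) := ‹Smooth A.hom›
  have hI : BlowUp.IsEffCartierIdeal I := by
    refine Groth.Agent.S1684.result A.left I (hgp.symm ▸ hcodim) fun x _ => ?_
    haveI : IsRegularLocalRing (A.left.presheaf.stalk x) := Groth.Agent.S1535.result K A.left x
    exact ⟨CommAlgDim.isDomain_of_isRegularLocalRing _, RegUFDLib.uniqueFactorizationMonoid _⟩
  have hi := IntMultLib.isInvertible_idealMod _ hI
  obtain ⟨φI⟩ := MiscFlat6.nonempty_dualIso hi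
  obtain ⟨σ, hσ⟩ := exists_section (MiscFlat6.dual_isInvertible hi) (I := I)
    ⟨KFlatLib.tensSwap _ (MiscFlat6.dual _) ≪≫ φI⟩
  exact ⟨_, MiscFlat6.dual_isInvertible hi, σ, hσ.trans (congrArg (·ᶜ) (Scheme.IdealSheafData.coe_support_vanishingIdeal Z))⟩

/-- Translation along a curve missing the divisor preserves it. -/
theorem translate_preimage_eq [Smooth A.hom] (hΔ : IsClosed Δ) {ξ : A.left} (hξ : closure {ξ} = Δ)
    (hcodim : ringKrullDim (A.left.presheaf.stalk ξ) = 1) {C : Set A.left} (hC : IsClosed C) (hCirr : IsIrreducible C)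
    (hdisj : Disjoint C Δ) {x y : 𝟙_ (Over (Spec (CommRingCat.of K))) ⟶ A} (hx : pt x ∈ C) (hy : pt y ∈ C) :
    ⇑(tR (x * y⁻¹)).left ⁻¹' Δ = Δ := by
  obtain ⟨L, hL, σ, hσ⟩ := exists_section_compl hΔ hξ hcodim
  obtain ⟨n, i, hi, hpre⟩ := exists_map hL σ ⟨pt x, hσ.ge (Set.disjoint_left.1 hdisj hx)⟩
  let S := Spec (CommRingCat.of K)
  let q := CohB1.ProjSpaceOver.toBase n S
  haveI : IsProper q := ChowLib.isProper_toBase n S
  obtain ⟨Z', j, hj, hZ', hjr⟩ := DevissLib.exists_integral_closed hC hCirr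
  haveI := hj; haveI := hZ'
  have hmem : ∀ z : Z', (j ≫ i) z ∈ Pk S (0 : Fin (n + 1)) := fun z => by
    show j z ∈ (i ⁻¹ᵁ Pk S (0 : Fin (n + 1)) : A.left.Opens)
    rw [hpre]
    exact hσ.ge (Set.disjoint_left.1 hdisj (hjr ▸ ⟨z, rfl⟩))
  let P := Pk S (0 : Fin (n + 1))
  haveI : IsAffine P.toScheme := isAffineOpen_Pk S (0 : Fin (n + 1))
  let g := IsOpenImmersion.lift P.ι (j ≫ i) (by
    rw [Scheme.Opens.range_ι]; rintro _ ⟨z, rfl⟩; exact hmem z)
  have hg : g ≫ P.ι = j ≫ i := IsOpenImmersion.lift_fac _ _ _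
  have hconst : ∀ w ∈ C, i w = i (pt y) := by
    intro w hw
    obtain ⟨z, rfl⟩ : w ∈ Set.range j := hjr ▸ hw
    obtain ⟨z', hz'⟩ : pt y ∈ Set.range j := hjr ▸ hy
    rw [← hz', ← Scheme.Hom.comp_apply, ← Scheme.Hom.comp_apply, ← hg, Scheme.Hom.comp_apply, Scheme.Hom.comp_apply,
      AVRigidLib.apply_eq_apply (j ≫ A.hom) g z z']
  have h := translate_comp_eq q i hi hC hCirr hconst hy hx
  have hU : (tR (x * y⁻¹)).left ⁻¹ᵁ genSet hL σ = genSet hL σ := by
    rw [← hpre, ← Scheme.Hom.comp_preimage, h]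
  have h2 := congrArg (fun U : A.left.Opens => ((U : Set A.left))) hU
  simp only [Scheme.Hom.coe_preimage, hσ, Set.preimage_compl, compl_inj_iff] at h2
  exact h2

end DivTransl

end
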